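import Groth.Agent.AGFQuot23.BorelFun
import Groth.Agent.AbSchLib.ConnectedFibres

/-!
# Images of Borel and parabolic subgroups under surjective homomorphisms
-/

set_option autoImplicit false
set_option backward.isDefEq.respectTransparency false
set_option linter.style.haveILetI false

universe u

open CategoryTheory CategoryTheory.Limits MonoidalCategory CartesianMonoidalCategory MonObj GrpObj AlgebraicGeometry

namespace Groth.Agent.BorelImg10

open AGFQuot23

variable {k : Type u} [Field k]

section AnyField

variable {E G M : Over (Spec (CommRingCat.of k))} [GrpObj E] [GrpObj G] [GrpObj M]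

theorem smooth_of_surjective [Smooth E.hom] [QuasiCompact E.hom] [LocallyOfFiniteType G.hom] [QuasiCompact G.hom]
    (f : E ⟶ G) [IsMonHom f] (i : M ⟶ G) [IsClosedImmersion i.left] [IsReduced M.left] (p : E ⟶ M)
    [Surjective p.left] (hp : p ≫ i = f) : Smooth M.hom := by
  obtain ⟨N, _, j, g, -, -, hcl, hg, hs, -, hsm, -, -⟩ := AlgGrpLib.ImageSubgroup.exists_image f
  haveI := hcl; haveI := hs; haveI := hsm
  haveI : IsReduced N.left := AbSchLib.isReduced_of_smooth N.hom
  have hij : Set.range i.left = Set.range j.left := by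
    have h1 : Set.range (p ≫ i).left = Set.range i.left := by
      rw [Over.comp_left, Scheme.Hom.comp_base, TopCat.coe_comp, p.left.surjective.range_comp]
    have h2 : Set.range (g ≫ j).left = Set.range j.left := by
      rw [Over.comp_left, Scheme.Hom.comp_base, TopCat.coe_comp, g.left.surjective.range_comp]
    rw [← h1, ← h2, hp, hg]
  obtain ⟨a, ha⟩ := RedSepLib.exists_lift_of_range_subset i.left j.left hij.le
  obtain ⟨b, hb⟩ := RedSepLib.exists_lift_of_range_subset j.left i.left hij.ge
  haveI : IsIso a := ⟨b, by rw [← cancel_mono i.left, Category.assoc, hb, ha, Category.id_comp],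
    by rw [← cancel_mono j.left, Category.assoc, ha, hb, Category.id_comp]⟩
  have e : M.hom = a ≫ N.hom := by rw [← Over.w j, ← Category.assoc, ha, Over.w]
  rw [e]
  infer_instance

theorem connectedSpace_bc (X : Over (Spec (CommRingCat.of k))) [GrpObj X] [ConnectedSpace X.left]
    [Smooth X.hom] {K : Type u} [Field K] (t : Spec (CommRingCat.of K) ⟶ Spec (CommRingCat.of k)) :
    ConnectedSpace ((Over.pullback t).obj X).left := by
  haveI : GeometricallyConnected X.hom :=
    AbSchLib.geometricallyConnected_of_section X.hom η[X].left (Over.w η[X]) fun s => by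
      have hsurj : Function.Surjective (X.hom.fiberι s) := fun a => by
        have ha : a ∈ Set.range (X.hom.fiberι s) := by
          rw [Scheme.Hom.range_fiberι]
          exact Subsingleton.elim (α := PrimeSpectrum k) _ _
        exact ha
      let e := (X.hom.fiberι s).isEmbedding.toHomeomorphOfSurjective hsurj
      exact e.symm.surjective.connectedSpace e.symm.continuous
  haveI : UniversallyOpen X.hom := inferInstance
  exact inferInstanceAs (ConnectedSpace ↥(pullback X.hom t))

end AnyField

section AlgClosed

variable [IsAlgClosed k]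
variable {G G' B M : Over (Spec (CommRingCat.of k))} [GrpObj G] [GrpObj G'] [GrpObj B] [GrpObj M]
  [IsAffine G.left] [Smooth G.hom] [ConnectedSpace G.left] [IsAffine G'.left] [Smooth G'.hom]
  [ConnectedSpace G'.left]

theorem isBorelOver_image (q : G ⟶ G') [IsMonHom q] [Surjective q.left] {iB : B ⟶ G}
    (hB : Red.IsBorelOver k iB) (iM : M ⟶ G') [IsMonHom iM] [IsClosedImmersion iM.left] [Smooth M.hom]
    (p : B ⟶ M) [Surjective p.left] (hpM : p ≫ iM = iB ≫ q) : Red.IsBorelOver k iM := by
  haveI : QuasiCompact G.hom := (quasiCompact_iff_compactSpace G.hom).2 inferInstance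
  haveI : QuasiCompact G'.hom := (quasiCompact_iff_compactSpace G'.hom).2 inferInstance
  obtain ⟨hi, hcl, hsm, hconn, hsolv, -⟩ := id hB
  haveI := hi; haveI := hcl; haveI := hsm; haveI := hconn
  haveI : QuasiCompact B.hom := by rw [← Over.w iB]; infer_instance
  haveI : QuasiCompact M.hom := by rw [← Over.w iM]; infer_instance
  haveI : Mono iB := Over.mono_of_mono_left _
  haveI : Mono iM := Over.mono_of_mono_left _
  haveI : IsMonHom p :=
    { one_hom := by rw [← cancel_mono iM, Category.assoc, hpM, IsMonHom.one_hom (iB ≫ q), IsMonHom.one_hom iM]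
      mul_hom := by
        rw [← cancel_mono iM, Category.assoc, hpM, IsMonHom.mul_hom (iB ≫ q), Category.assoc, IsMonHom.mul_hom iM,
          ← hpM, tensorHom_comp_tensorHom_assoc] }
  haveI : ConnectedSpace M.left := p.left.surjective.connectedSpace p.left.continuous
  haveI : Group.IsSolvable (𝟙_ (Over (Spec (CommRingCat.of k))) ⟶ B) := by
    obtain ⟨n, hn⟩ := hsolv
    exact ⟨⟨n, hn _⟩⟩
  haveI : Group.IsSolvable (𝟙_ (Over (Spec (CommRingCat.of k))) ⟶ M) :=
    solvable_of_surjective (f := MonoidHom.mk' (fun b => b ≫ p) fun b b' => MonObj.mul_comp b b' p)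
      fun m => exists_ratPoint_lift p m
  have hsolvM := isSolvableGrp_of_points M
  obtain ⟨X, a, o, -, hLX, -, hfl, hs, hpb⟩ := AlgGrpLib.HomogQuotProj.exists_quotient_projMono G B iB
  haveI := isProper_of_isBorelOver hB ⟨hLX, hfl, hs, hpb⟩
  obtain ⟨Y, c, o', ⟨n, m, hm, hm'⟩, hLY, hqY, hflY, hsY, hpbY⟩ :=
    AlgGrpLib.HomogQuotProj.exists_quotient_projMono G' M iM
  haveI := hLY; haveI := hm
  obtain ⟨f, ⟨-, hf⟩, -⟩ := existsUnique_equivariant a o hpb (isFppfCov_orbitMap a o hs hfl) (restrictAction c q) o'
    (fun W h => by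
      show lift (h ≫ iB) _ ≫ (q ▷ Y) ≫ c.act = _
      rw [lift_whiskerRight_assoc, ← comp_orbitMap, ← one_comp_orbitMap c o' W]
      have := congrArg (fun t => lift (1 : W ⟶ G') (h ≫ p) ≫ t) hpbY.w
      rw [← Category.assoc, ← Category.assoc, lift_fst, RedQuotLib.act_eq, lift_fst, lift_snd, _root_.one_mul,
        Category.assoc h p iM, hpM, ← Category.assoc h iB q] at this
      exact this.symm)
  have horb : (restrictAction c q).orbitMap o' = q ≫ c.orbitMap o' := by
    rw [comp_orbitMap]
    show lift _ _ ≫ (q ▷ Y) ≫ c.act = _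
    rw [lift_whiskerRight_assoc, Category.id_comp]
  haveI : Surjective (q.left ≫ (c.orbitMap o').left) := inferInstance
  haveI : Surjective ((a.orbitMap o).left ≫ f.left) := by
    rw [← Over.comp_left, hf, horb, Over.comp_left]; infer_instance
  haveI : Surjective f.left := Surjective.of_comp (a.orbitMap o).left f.left
  haveI : UniversallyClosed (f.left ≫ Y.hom) := by rw [Over.w]; infer_instance
  haveI : UniversallyClosed Y.hom := UniversallyClosed.of_comp_surjective f.left Y.hom
  haveI := RelVALib.isProper_toBase n (Spec (CommRingCat.of k))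
  haveI : IsSeparated Y.hom := by rw [← hm']; infer_instance
  haveI : IsProper Y.hom := {}
  exact isBorelOver_of_isProper iM inferInstance hsolvM Y c o' ⟨hLY, hflY, hsY, hpbY⟩ inferInstance

theorem isParabolicOver_image {P : Over (Spec (CommRingCat.of k))} [GrpObj P] (q : G ⟶ G') [IsMonHom q]
    [Surjective q.left] {iP : P ⟶ G} (hP : Red.IsParabolicOver k iP) (iM : M ⟶ G') [IsMonHom iM]
    [IsClosedImmersion iM.left] [Smooth M.hom] (p : P ⟶ M) (hpM : p ≫ iM = iP ≫ q) :
    Red.IsParabolicOver k iM := by
  haveI : QuasiCompact G'.hom := (quasiCompact_iff_compactSpace G'.hom).2 inferInstance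
  haveI : QuasiCompact G.hom := (quasiCompact_iff_compactSpace G.hom).2 inferInstance
  obtain ⟨-, -, -, B, _, b, hB⟩ := hP
  obtain ⟨hi, hcl, hsm, -⟩ := id hB
  haveI := hi; haveI := hcl; haveI := hsm
  haveI : QuasiCompact B.hom := by rw [← Over.w (b ≫ iP)]; infer_instance
  obtain ⟨N, _, j, g, hj, -, hclN, hg, hsg, -, hsmN, -, -⟩ := AlgGrpLib.ImageSubgroup.exists_image ((b ≫ iP) ≫ q)
  haveI := hj; haveI := hclN; haveI := hsg; haveI := hsmN
  haveI : IsReduced N.left := AbSchLib.isReduced_of_smooth N.hom
  have hsub : Set.range j.left ⊆ Set.range iM.left := by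
    have hgl : g.left ≫ j.left = b.left ≫ p.left ≫ iM.left := by
      rw [← Over.comp_left, ← Over.comp_left, ← Over.comp_left, hg, Category.assoc, hpM]
    rintro _ ⟨x, rfl⟩
    obtain ⟨t, rfl⟩ := g.left.surjective x
    have := congrArg (fun f : B.left ⟶ G'.left => f t) hgl
    exact ⟨p.left (b.left t), this.symm⟩
  obtain ⟨l, hl⟩ := RedSepLib.exists_lift_of_range_subset j.left iM.left hsub
  let l' : N ⟶ M := Over.homMk l (by rw [← Over.w iM, ← Category.assoc, hl, Over.w])
  have hl' : l' ≫ iM = j := Over.OverMorphism.ext hl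
  refine ⟨inferInstance, inferInstance, inferInstance, N, inferInstance, l', ?_⟩
  rw [hl']
  exact isBorelOver_image q hB j g hg

end AlgClosed

section Descent

variable {G Q B' B : Over (Spec (CommRingCat.of k))} [GrpObj G] [GrpObj Q] [GrpObj B] [GrpObj B']
  [IsAffine G.left] [Smooth G.hom] [ConnectedSpace G.left] [IsAffine Q.left] [Smooth Q.hom] [ConnectedSpace Q.left]
  (q : G ⟶ Q) [IsMonHom q] [Surjective q.left]
  (iB' : B' ⟶ Q) [IsMonHom iB'] [IsClosedImmersion iB'.left] [IsReduced B'.left]
  (p : B ⟶ B') [Surjective p.left]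

theorem smooth_image {iB : B ⟶ G} [IsMonHom iB] [IsClosedImmersion iB.left] [Smooth B.hom]
    (hp : p ≫ iB' = iB ≫ q) : Smooth B'.hom := by
  haveI : QuasiCompact G.hom := (quasiCompact_iff_compactSpace G.hom).2 inferInstance
  haveI : QuasiCompact Q.hom := (quasiCompact_iff_compactSpace Q.hom).2 inferInstance
  haveI : QuasiCompact B.hom := by rw [← Over.w iB]; infer_instance
  exact smooth_of_surjective (iB ≫ q) iB' p hp

theorem isBorel_image {iB : B ⟶ G} (hB : Red.IsBorel iB) (hp : p ≫ iB' = iB ≫ q) : Red.IsBorel iB' := by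
  obtain ⟨hi, hcl, hsm, h⟩ := hB
  haveI := hi; haveI := hcl; haveI := hsm
  haveI := smooth_image q iB' p hp
  refine ⟨inferInstance, inferInstance, inferInstance, fun s => ?_⟩
  let F := Over.pullback (Red.geomPt s)
  haveI : F.IsRightAdjoint := (Over.mapPullbackAdj _).isRightAdjoint
  haveI : ConnectedSpace (F.obj G).left := connectedSpace_bc G (Red.geomPt s)
  haveI : ConnectedSpace (F.obj Q).left := connectedSpace_bc Q (Red.geomPt s)
  haveI : IsAffine (F.obj G).left := inferInstanceAs (IsAffine (pullback G.hom (Red.geomPt s)))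
  haveI : IsAffine (F.obj Q).left := inferInstanceAs (IsAffine (pullback Q.hom (Red.geomPt s)))
  haveI : Smooth (F.obj G).hom := inferInstanceAs (Smooth (pullback.snd G.hom (Red.geomPt s)))
  haveI : Smooth (F.obj Q).hom := inferInstanceAs (Smooth (pullback.snd Q.hom (Red.geomPt s)))
  haveI : Smooth (F.obj B').hom := inferInstanceAs (Smooth (pullback.snd B'.hom (Red.geomPt s)))
  haveI : Surjective (F.map q).left := MorphismProperty.baseChange_map (P := @Surjective) (Red.geomPt s) q inferInstance
  haveI : Surjective (F.map p).left := MorphismProperty.baseChange_map (P := @Surjective) (Red.geomPt s) p inferInstance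
  haveI : IsClosedImmersion (F.map iB').left := MorphismProperty.baseChange_map (P := @IsClosedImmersion) (Red.geomPt s) iB' inferInstance
  exact isBorelOver_image (F.map q) (h s) (F.map iB') (F.map p) (by rw [← F.map_comp, ← F.map_comp, hp])

theorem isParabolic_image {iB : B ⟶ G} (hB : Red.IsParabolic iB) (hp : p ≫ iB' = iB ≫ q) :
    Red.IsParabolic iB' := by
  obtain ⟨hi, hcl, hsm, h⟩ := hB
  haveI := hi; haveI := hcl; haveI := hsm
  haveI := smooth_image q iB' p hp
  refine ⟨inferInstance, inferInstance, inferInstance, fun s => ?_⟩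
  let F := Over.pullback (Red.geomPt s)
  haveI : F.IsRightAdjoint := (Over.mapPullbackAdj _).isRightAdjoint
  haveI : ConnectedSpace (F.obj G).left := connectedSpace_bc G (Red.geomPt s)
  haveI : ConnectedSpace (F.obj Q).left := connectedSpace_bc Q (Red.geomPt s)
  haveI : IsAffine (F.obj G).left := inferInstanceAs (IsAffine (pullback G.hom (Red.geomPt s)))
  haveI : IsAffine (F.obj Q).left := inferInstanceAs (IsAffine (pullback Q.hom (Red.geomPt s)))
  haveI : Smooth (F.obj G).hom := inferInstanceAs (Smooth (pullback.snd G.hom (Red.geomPt s)))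
  haveI : Smooth (F.obj Q).hom := inferInstanceAs (Smooth (pullback.snd Q.hom (Red.geomPt s)))
  haveI : Smooth (F.obj B').hom := inferInstanceAs (Smooth (pullback.snd B'.hom (Red.geomPt s)))
  haveI : Surjective (F.map q).left := MorphismProperty.baseChange_map (P := @Surjective) (Red.geomPt s) q inferInstance
  haveI : Surjective (F.map p).left := MorphismProperty.baseChange_map (P := @Surjective) (Red.geomPt s) p inferInstance
  haveI : IsClosedImmersion (F.map iB').left := MorphismProperty.baseChange_map (P := @IsClosedImmersion) (Red.geomPt s) iB' inferInstance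
  exact isParabolicOver_image (F.map q) (h s) (F.map iB') (F.map p) (by rw [← F.map_comp, ← F.map_comp, hp])

end Descent

end Groth.Agent.BorelImg10
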